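import Cfsg.Agent.Lib.Fusion.HaradaDV.Sections
import Cfsg.Prelude.Def_TwoFusion
import Mathlib.GroupTheory.SpecificGroups.Dihedral

/-!
`T = D × B` with `D` non-abelian of cyclic index two, every non-trivial element of `B` having `T` as a
Sylow 2-subgroup of its centralizer: then `T` is a Sylow 2-subgroup, and its sections have rank at most four.
-/

set_option autoImplicit false

namespace Cfsg.Agent.Fusion.HaradaDV

open scoped commutatorElement Pointwise

variable {G : Type*} [Group G]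

/-- What we use about a non-abelian dihedral or quasi-dihedral group: a cyclic subgroup of index two containing
the derived subgroup, and central elements are involutions of it or trivial. -/
def CyclicTwo (D : Subgroup G) : Prop :=
  ∃ c y : G, c ∈ D ∧ y ∈ D ∧ Even (orderOf c) ∧
    (∀ d ∈ D, ∃ i : ℤ, d = c ^ i ∨ d = c ^ i * y) ∧
    y * c * y⁻¹ ∈ Subgroup.zpowers c ∧ y * c ≠ c * y ∧
    ∀ i : ℤ, y * c ^ i = c ^ i * y → (c ^ i) * (c ^ i) = 1

theorem cyclicTwo_dihedral {D : Subgroup G} {m : ℕ} (hm : 3 ≤ m) (hev : Even m) (e : D ≃* DihedralGroup m) :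
    CyclicTwo D := by
  haveI : NeZero m := ⟨by omega⟩
  let ψ : DihedralGroup m →* G := D.subtype.comp e.symm.toMonoidHom
  have hψ : Function.Injective ψ := D.subtype_injective.comp e.symm.injective
  refine ⟨ψ (.r 1), ψ (.sr 0), (e.symm _).2, (e.symm _).2, ?_, ?_, ?_, ?_, ?_⟩
  · rw [orderOf_injective ψ hψ, DihedralGroup.orderOf_r_one]; exact hev
  · intro d hd
    obtain ⟨u, hu⟩ := e.symm.surjective ⟨d, hd⟩
    have hd' : ψ u = d := congrArg Subtype.val hu
    cases u with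
    | r i =>
      exact ⟨i.val, Or.inl (by rw [← hd', ← map_zpow, DihedralGroup.r_one_zpow]; simp)⟩
    | sr i =>
      refine ⟨((-i : ZMod m)).val, Or.inr ?_⟩
      rw [← hd', ← map_zpow, DihedralGroup.r_one_zpow, ← map_mul]
      simp [DihedralGroup.r_mul_sr]
  · refine ⟨-1, ?_⟩
    simp only [← map_zpow, ← map_inv, ← map_mul]
    congr 1
    rw [zpow_neg_one, DihedralGroup.inv_r, DihedralGroup.inv_sr, DihedralGroup.sr_mul_r, DihedralGroup.sr_mul_sr]
    simp
  · intro h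
    rw [← map_mul, ← map_mul] at h
    have h2 := hψ h
    rw [DihedralGroup.sr_mul_r, DihedralGroup.r_mul_sr] at h2
    injection h2 with h3
    have : ((2 : ℕ) : ZMod m) = 0 := by push_cast; linear_combination h3
    rw [ZMod.natCast_eq_zero_iff] at this
    have := Nat.le_of_dvd two_pos this
    omega
  · intro i h
    rw [← map_zpow, DihedralGroup.r_one_zpow] at h ⊢
    rw [← map_mul, ← map_mul] at h
    have h2 := hψ h
    rw [DihedralGroup.sr_mul_r, DihedralGroup.r_mul_sr] at h2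
    injection h2 with h3
    rw [← map_mul, DihedralGroup.r_mul_r, show (i : ZMod m) + i = 0 by linear_combination h3,
      DihedralGroup.r_zero, map_one]

theorem cyclicTwo_quasi {D : Subgroup G} (h : Cfsg.IsQuasiDihedral D) : CyclicTwo D := by
  classical
  obtain ⟨n, hn, hc, x, y, hx, hy, hxy⟩ := h
  haveI : Finite D := Nat.finite_of_card_ne_zero (by rw [hc]; positivity)
  obtain ⟨k, rfl⟩ : ∃ k, n = k + 3 := ⟨n - 3, by omega⟩
  have hE : ∀ i : ℤ, y * x ^ i * y⁻¹ = x ^ (((2 : ℤ) ^ (k + 2) - 1) * i) := by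
    intro i
    rw [← conj_zpow, hxy, ← zpow_natCast, ← zpow_mul]
    congr 2
    rw [Nat.cast_sub Nat.one_le_two_pow]
    push_cast
    rfl
  have hcore : ∀ i : ℤ, y * x ^ i = x ^ i * y → (2 : ℤ) ^ (k + 3) ∣ 2 * i := by
    intro i hi
    have h1 : x ^ (((2 : ℤ) ^ (k + 2) - 1) * i) = x ^ i := by rw [← hE, hi, mul_inv_cancel_right]
    rw [zpow_eq_zpow_iff_modEq, hx, Int.modEq_iff_dvd] at h1
    push_cast at h1
    have h2 : (2 : ℤ) ^ (k + 3) ∣ (2 * i) * (2 ^ (k + 1) - 1) := by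
      have he : (2 * i) * (2 ^ (k + 1) - 1) = -(i - ((2 : ℤ) ^ (k + 2) - 1) * i) := by ring
      rw [he]; exact dvd_neg.2 (by simpa using h1)
    refine IsCoprime.dvd_of_dvd_mul_right ?_ h2
    exact IsCoprime.pow_left ⟨2 ^ k, -1, by ring⟩
  have hgen : ∀ d : D, ∃ i : ℤ, d = x ^ i ∨ d = x ^ i * y := by
    have hyx : y ∉ Subgroup.zpowers x := by
      rintro ⟨i, rfl⟩
      have h1 := hcore 1 (by group)
      have h4 : (4 : ℤ) ∣ 2 ^ (k + 3) := ⟨2 ^ (k + 1), by ring⟩
      have := (h4.trans h1)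
      norm_num at this
    have hidx : (Subgroup.zpowers x).index = 2 := by
      have h1 := (Subgroup.zpowers x).card_mul_index
      rw [Nat.card_zpowers, hx, hc, pow_succ (2 : ℕ) (k + 3)] at h1
      exact Nat.eq_of_mul_eq_mul_left (by positivity) h1
    intro d
    by_cases hd : d ∈ Subgroup.zpowers x
    · obtain ⟨i, rfl⟩ := hd; exact ⟨i, Or.inl rfl⟩
    · have := (Subgroup.mul_mem_iff_of_index_two hidx (a := d) (b := y⁻¹)).2
        (by rw [inv_mem_iff]; exact iff_of_false hd hyx)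
      obtain ⟨i, hi⟩ := this
      exact ⟨i, Or.inr (by rw [show x ^ i = d * y⁻¹ from hi, inv_mul_cancel_right])⟩
  refine ⟨x, y, x.2, y.2, ?_, ?_, ?_, ?_, ?_⟩
  · rw [Subgroup.orderOf_coe, hx]; exact (Nat.even_pow.2 ⟨even_two, by omega⟩)
  · intro d hd
    obtain ⟨i, hi⟩ := hgen ⟨d, hd⟩
    exact ⟨i, hi.imp (fun e => by simpa using congrArg Subtype.val e)
      (fun e => by simpa using congrArg Subtype.val e)⟩
  · refine ⟨((2 : ℤ) ^ (k + 2) - 1) * 1, ?_⟩
    simpa using (congrArg Subtype.val (hE 1)).symm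
  · intro hcm
    have h1 := hcore 1 (by simpa using Subtype.ext (a1 := y * x) (a2 := x * y) hcm)
    have h4 : (4 : ℤ) ∣ 2 ^ (k + 3) := ⟨2 ^ (k + 1), by ring⟩
    have := (h4.trans h1)
    norm_num at this
  · intro i hi
    have h1 := hcore i (Subtype.ext (by simpa using hi))
    have h2 : x ^ (2 * i) = 1 := by
      rw [← orderOf_dvd_iff_zpow_eq_one, hx]; exact_mod_cast h1
    rw [← zpow_add, show i + i = 2 * i by ring]
    simpa using congrArg Subtype.val h2

/-- The unique involution of a cyclic group. -/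
theorem zpowers_involution {c a b : G} (ha : a ∈ Subgroup.zpowers c) (hb : b ∈ Subgroup.zpowers c)
    (hc : orderOf c ≠ 0) (ha1 : a ≠ 1) (hb1 : b ≠ 1) (ha2 : a * a = 1) (hb2 : b * b = 1) : a = b := by
  obtain ⟨i, rfl⟩ := ha
  obtain ⟨j, rfl⟩ := hb
  simp only [← zpow_add, ← two_mul] at ha2 hb2
  rw [← orderOf_dvd_iff_zpow_eq_one] at ha2 hb2
  simp only [ne_eq, ← orderOf_dvd_iff_zpow_eq_one] at ha1 hb1
  obtain ⟨u, hu⟩ := ha2
  obtain ⟨v, hv⟩ := hb2
  have hu1 : ¬ Even u := fun ⟨w, hw⟩ => ha1 ⟨w, by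
    have h2 : 2 * i = 2 * ((orderOf c : ℤ) * w) := by rw [hu, hw]; ring
    linarith⟩
  have hv1 : ¬ Even v := fun ⟨w, hw⟩ => hb1 ⟨w, by
    have h2 : 2 * j = 2 * ((orderOf c : ℤ) * w) := by rw [hv, hw]; ring
    linarith⟩
  rw [Int.not_even_iff_odd] at hu1 hv1
  obtain ⟨a', rfl⟩ := hu1
  obtain ⟨b', rfl⟩ := hv1
  rw [zpow_eq_zpow_iff_modEq, Int.modEq_iff_dvd]
  refine ⟨b' - a', ?_⟩
  linarith

theorem exists_zpow_generator (c : G) (K : Subgroup G) (hK : K ≤ Subgroup.zpowers c) :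
    ∃ u : G, K = Subgroup.zpowers u := by
  haveI : IsCyclic (Subgroup.zpowers c) := Subgroup.isCyclic_zpowers c
  haveI : IsCyclic K := Subgroup.isCyclic_of_le hK
  obtain ⟨u, hu⟩ := IsCyclic.exists_generator (α := K)
  refine ⟨u, le_antisymm (fun k hk => ?_) (Subgroup.zpowers_le.2 u.2)⟩
  obtain ⟨i, hi⟩ := hu ⟨k, hk⟩
  exact ⟨i, by simpa using congrArg Subtype.val hi⟩

/-- `T = D × B` with `D` non-abelian: an element of order two modulo `T` cannot normalize `T`. -/
theorem fixes_some [Finite G] {D B T : Subgroup G} (hT : IsPGroup 2 T) (hprod : Cfsg.IsInternalDirectProduct D B T)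
    (hD : CyclicTwo D) (hB : Nat.card B = 4) (hB2 : ∀ b ∈ B, b * b = 1)
    {g : G} (hg : g ∈ Subgroup.normalizer (T : Set G)) (hg2 : g * g ∈ T) :
    ∃ b ∈ B, b ≠ 1 ∧ g * b = b * g := by
  classical
  obtain ⟨hDT, hBT, hcomm, hinf, hsup⟩ := hprod
  obtain ⟨c, y, hcD, hyD, hce, hgen, hnorm, hne, hcent⟩ := hD
  haveI : Fact (Nat.Prime 2) := ⟨Nat.prime_two⟩
  have hc0 : orderOf c ≠ 0 := (orderOf_pos c).ne'
  have hB3 : 1 < Nat.card B := by omega
  have hBc : ∀ a ∈ B, ∀ b ∈ B, a * b = b * a := fun a ha b hb =>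
    calc a * b = (a * b)⁻¹ := eq_inv_of_mul_eq_one_left (hB2 _ (mul_mem ha hb))
      _ = b⁻¹ * a⁻¹ := mul_inv_rev a b
      _ = b * a := by
        rw [inv_eq_of_mul_eq_one_right (hB2 a ha), inv_eq_of_mul_eq_one_right (hB2 b hb)]
  have hdec : ∀ t ∈ T, ∃ d ∈ D, ∃ b ∈ B, t = d * b := by
    intro t ht
    rw [← hsup] at ht
    have hn : D ≤ Subgroup.normalizer (B : Set G) := fun d hd => by
      rw [Subgroup.mem_normalizer_iff]
      intro b
      constructor
      · intro hb; rw [hcomm d hd b hb, mul_inv_cancel_right]; exact hb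
      · intro hb
        have h2 := hcomm d⁻¹ (inv_mem hd) _ hb
        have h3 : b = d⁻¹ * (d * b * d⁻¹) * d := by group
        rw [h3, h2, inv_mul_cancel_right]; exact hb
    have hs : (↑(D ⊔ B) : Set G) = (D : Set G) * (B : Set G) :=
      Subgroup.coe_mul_of_left_le_normalizer_right D B hn
    rw [← SetLike.mem_coe, hs] at ht
    obtain ⟨d, hd, b, hb, rfl⟩ := Set.mem_mul.1 ht
    exact ⟨d, hd, b, hb, rfl⟩
  have hBcent : ∀ b ∈ B, ∀ t ∈ T, b * t = t * b := by
    intro b hb t ht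
    obtain ⟨d, hd, b', hb', rfl⟩ := hdec t ht
    rw [← mul_assoc, ← hcomm d hd b hb, mul_assoc, hBc b hb b' hb', ← mul_assoc]
  let K : Subgroup G := ⁅T, T⁆
  have hcc : ∀ d ∈ D, ∀ i : ℤ, d * c ^ i * d⁻¹ ∈ Subgroup.zpowers c := by
    intro d hd i
    have hy : y * c ^ i * y⁻¹ ∈ Subgroup.zpowers c := by
      rw [← conj_zpow]; exact zpow_mem hnorm i
    obtain ⟨j, rfl | rfl⟩ := hgen d hd
    · rw [← zpow_add, ← zpow_neg, ← zpow_add]; exact zpow_mem (Subgroup.mem_zpowers c) _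
    · have h2 : c ^ j * y * c ^ i * (c ^ j * y)⁻¹ = c ^ j * (y * c ^ i * y⁻¹) * (c ^ j)⁻¹ := by group
      rw [h2]
      exact mul_mem (mul_mem (zpow_mem (Subgroup.mem_zpowers c) _) hy)
        (inv_mem (zpow_mem (Subgroup.mem_zpowers c) _))
  have hKc : K ≤ Subgroup.zpowers c := by
    rw [Subgroup.commutator_le]
    intro t ht s hs
    obtain ⟨d, hd, b, hb, rfl⟩ := hdec t ht
    obtain ⟨e, he, b', hb', rfl⟩ := hdec s hs
    have h1 : ⁅d * b, e * b'⁆ = ⁅d, e⁆ := by
      have q1 := hBcent b hb e (hDT he)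
      have q2 := hBcent b' hb' d (hDT hd)
      have q3 := hBc b hb b' hb'
      rw [commutatorElement_def, commutatorElement_def, mul_inv_rev, mul_inv_rev]
      calc d * b * (e * b') * (b⁻¹ * d⁻¹) * (b'⁻¹ * e⁻¹)
          = d * (b * e) * (b' * b⁻¹) * (d⁻¹ * b'⁻¹) * e⁻¹ := by group
        _ = d * (e * b) * (b⁻¹ * b') * (b'⁻¹ * d⁻¹) * e⁻¹ := by
            rw [q1, show b' * b⁻¹ = b⁻¹ * b' from ((Commute.inv_right (show Commute b' b from q3.symm))).eq,
              show d⁻¹ * b'⁻¹ = b'⁻¹ * d⁻¹ from (Commute.inv_inv (show Commute d b' from q2.symm)).eq]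
        _ = d * e * d⁻¹ * e⁻¹ := by group
    rw [h1, commutatorElement_def]
    obtain ⟨i, rfl | rfl⟩ := hgen d hd
    · have h2 : c ^ i * e * (c ^ i)⁻¹ * e⁻¹ = c ^ i * (e * c ^ (-i) * e⁻¹) := by group
      rw [h2]; exact mul_mem (zpow_mem (Subgroup.mem_zpowers c) _) (hcc e he _)
    · obtain ⟨j, rfl | rfl⟩ := hgen e he
      · have h2 : c ^ i * y * c ^ j * (c ^ i * y)⁻¹ * (c ^ j)⁻¹ =
            (c ^ i * y * c ^ j * (c ^ i * y)⁻¹) * (c ^ j)⁻¹ := by group
        rw [h2]
        exact mul_mem (hcc _ hd _) (inv_mem (zpow_mem (Subgroup.mem_zpowers c) _))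
      · have h2 : c ^ i * y * (c ^ j * y) * (c ^ i * y)⁻¹ * (c ^ j * y)⁻¹ =
            c ^ i * (y * c ^ (j - i) * y⁻¹) * c ^ (-j) := by group
        rw [h2]
        exact mul_mem (mul_mem (zpow_mem (Subgroup.mem_zpowers c) _) (by
          rw [← conj_zpow]; exact zpow_mem hnorm _)) (zpow_mem (Subgroup.mem_zpowers c) _)
  have hK1 : K ≠ ⊥ := fun h => hne ((commutatorElement_eq_one_iff_mul_comm).1
    ((Subgroup.eq_bot_iff_forall _).1 h _ (Subgroup.commutator_mem_commutator (hDT hyD) (hDT hcD))))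
  obtain ⟨z, hzK, hz1, hz2⟩ : ∃ z ∈ K, z ≠ 1 ∧ z * z = 1 := by
    have hK2 : IsPGroup 2 K :=
      hT.to_le (Subgroup.commutator_le.2 fun a ha b hb =>
        mul_mem (mul_mem (mul_mem ha hb) (inv_mem ha)) (inv_mem hb))
    haveI : Nontrivial K := (Subgroup.nontrivial_iff_ne_bot K).2 hK1
    obtain ⟨k, hk, hcard⟩ := hK2.nontrivial_iff_card.1 inferInstance
    obtain ⟨w, hw⟩ := exists_prime_orderOf_dvd_card' (G := K) 2 (hcard ▸ dvd_pow_self 2 hk.ne')
    refine ⟨w, w.2, fun h => ?_, ?_⟩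
    · rw [show w = 1 from Subtype.ext h, orderOf_one] at hw; omega
    · have := congrArg Subtype.val (pow_orderOf_eq_one w)
      rw [hw] at this; simpa [pow_two] using this
  have hzc := hKc hzK
  have hgmem : ∀ t ∈ T, g * t * g⁻¹ ∈ T := fun t ht => ((Subgroup.mem_normalizer_iff.1 hg) t).1 ht
  have hgz : g * z * g⁻¹ = z := by
    have hgK : g * z * g⁻¹ ∈ K := by
      have hle : K.map (MulAut.conj g).toMonoidHom ≤ K := by
        rw [Subgroup.map_commutator]
        refine Subgroup.commutator_mono ?_ ?_ <;>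
        · rintro _ ⟨t, ht, rfl⟩; exact hgmem t ht
      exact hle (Subgroup.mem_map_of_mem _ hzK)
    refine zpowers_involution (hKc hgK) hzc hc0 (fun h => hz1 (by simpa using h)) hz1 ?_ hz2
    rw [show g * z * g⁻¹ * (g * z * g⁻¹) = g * (z * z) * g⁻¹ by group, hz2]; group
  have himg : ∀ b ∈ B, ∃ w ∈ Subgroup.zpowers c, w * w = 1 ∧ ∃ b' ∈ B, g * b * g⁻¹ = w * b' := by
    intro b hb
    obtain ⟨d, hd, b', hb', he⟩ := hdec _ (hgmem b (hBT hb))
    have hcd : ∀ e ∈ D, d * e = e * d := by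
      intro e he'
      have heT := hDT he'
      have h1 : g⁻¹ * e * g ∈ T := by
        have := ((Subgroup.mem_normalizer_iff.1 (inv_mem hg)) e).1 heT
        simpa using this
      have h2 : (g * b * g⁻¹) * e = e * (g * b * g⁻¹) := by
        calc (g * b * g⁻¹) * e = g * (b * (g⁻¹ * e * g)) * g⁻¹ := by group
          _ = g * ((g⁻¹ * e * g) * b) * g⁻¹ := by rw [hBcent b hb _ h1]
          _ = e * (g * b * g⁻¹) := by group
      rw [he, mul_assoc, hBcent b' hb' e heT, ← mul_assoc, ← mul_assoc] at h2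
      exact mul_right_cancel h2
    obtain ⟨i, rfl | rfl⟩ := hgen d hd
    · exact ⟨c ^ i, zpow_mem (Subgroup.mem_zpowers c) i, hcent i (hcd y hyD).symm, b', hb', he⟩
    · exfalso
      apply hne
      have h1 := hcd c hcD
      have h2 : c ^ i * (y * c) = c ^ i * (c * y) := by
        rw [← mul_assoc, h1, ← mul_assoc, ← mul_assoc, (Commute.self_zpow c i).eq]
      exact mul_left_cancel h2
  have hgw : ∀ w ∈ Subgroup.zpowers c, w * w = 1 → g * w * g⁻¹ = w := by
    intro w hw hw2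
    by_cases hw1 : w = 1
    · rw [hw1]; group
    · rw [zpowers_involution hw hzc hc0 hw1 hz1 hw2 hz2]; exact hgz
  by_contra hno
  push Not at hno
  -- each element of `B` is sent to itself times `z` or itself
  have hfix : ∀ b ∈ B, g * b * g⁻¹ = b ∨ g * b * g⁻¹ = z * b := by
    intro b hb
    obtain ⟨w, hwc, hw2, b', hb', he⟩ := himg b hb
    have hgg : g * (g * b * g⁻¹) * g⁻¹ = b := by
      rw [show g * (g * b * g⁻¹) * g⁻¹ = (g * g) * b * (g * g)⁻¹ by group, ← hBcent b hb _ hg2]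
      group
    have h3 : g * b' * g⁻¹ = w * b := by
      rw [he, show g * (w * b') * g⁻¹ = (g * w * g⁻¹) * (g * b' * g⁻¹) by group, hgw w hwc hw2] at hgg
      calc g * b' * g⁻¹ = (w * w) * (g * b' * g⁻¹) := by rw [hw2, one_mul]
        _ = w * (w * (g * b' * g⁻¹)) := mul_assoc _ _ _
        _ = w * b := by rw [hgg]
    have hwT : w ∈ T := (Subgroup.zpowers_le.2 (hDT hcD)) hwc
    have h4 : g * (b * b') * g⁻¹ = b * b' := by
      rw [show g * (b * b') * g⁻¹ = (g * b * g⁻¹) * (g * b' * g⁻¹) by group, he, h3]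
      calc w * b' * (w * b) = w * (b' * w) * b := by group
        _ = w * (w * b') * b := by rw [hBcent b' hb' w hwT]
        _ = (w * w) * (b' * b) := by group
        _ = b * b' := by rw [hw2, one_mul, hBc b' hb' b hb]
    have hbb : b * b' = 1 := by
      by_contra h
      exact hno _ (mul_mem hb hb') h (mul_inv_eq_iff_eq_mul.1 h4)
    have hb'b : b' = b := by
      calc b' = (b * b) * b' := by rw [hB2 b hb, one_mul]
        _ = b * (b * b') := mul_assoc _ _ _
        _ = b := by rw [hbb, mul_one]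
    subst hb'b
    by_cases hw1 : w = 1
    · exact Or.inl (by rw [he, hw1, one_mul])
    · exact Or.inr (by rw [he, zpowers_involution hwc hzc hc0 hw1 hz1 hw2 hz2])
  have hz' : ∀ b ∈ B, b ≠ 1 → g * b * g⁻¹ = z * b := fun b hb h1 =>
    (hfix b hb).resolve_left fun h => hno b hb h1 (mul_inv_eq_iff_eq_mul.1 h)
  -- two distinct non-trivial elements of `B`
  obtain ⟨a, ha, ha1⟩ := B.bot_or_exists_ne_one.resolve_left (fun h => by simp [h] at hB)
  obtain ⟨b, hb, hb1, hab⟩ : ∃ b ∈ B, b ≠ 1 ∧ b ≠ a := by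
    by_contra hh
    push Not at hh
    have hsub : (B : Set G) ⊆ {1, a} := fun b hb => by
      by_cases h : b = 1
      · exact Or.inl h
      · exact Or.inr (hh b hb h)
    have := (Set.ncard_le_ncard hsub (Set.toFinite _)).trans (Set.ncard_insert_le _ _)
    rw [Set.ncard_singleton, ← Nat.card_coe_set_eq] at this
    change Nat.card B ≤ 1 + 1 at this
    omega
  have hab1 : a * b ≠ 1 := fun h => hab (by
    calc b = (a * a) * b := by rw [hB2 a ha, one_mul]
      _ = a * (a * b) := mul_assoc _ _ _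
      _ = a := by rw [h, mul_one])
  have h := hz' _ (mul_mem ha hb) hab1
  rw [show g * (a * b) * g⁻¹ = (g * a * g⁻¹) * (g * b * g⁻¹) by group, hz' a ha ha1, hz' b hb hb1] at h
  have hzT : z ∈ T := (Subgroup.zpowers_le.2 (hDT hcD)) hzc
  refine hz1 ?_
  have h' : z * (a * b) = a * b := by
    rw [← h]
    calc z * a * (z * b) = z * (a * z) * b := by group
      _ = z * (z * a) * b := by rw [hBcent a ha z hzT]
      _ = (z * z) * (a * b) := by group
      _ = a * b := by rw [hz2, one_mul]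
  exact mul_right_cancel (by simpa using h' : z * (a * b) = 1 * (a * b))

end Cfsg.Agent.Fusion.HaradaDV
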