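import Cfsg.Agent.Lib.Fusion.HaradaDV.Sections

/-!
A 2-group `P` with an elementary abelian subgroup `T` of order 16 containing a four subgroup `B` whose
non-trivial elements have centralizer inside `T`: then `P` has order at most 128 and no section of `P` is
elementary abelian of order 32.
-/

set_option autoImplicit false

namespace Cfsg.Agent.Fusion.HaradaDV

open scoped commutatorElement Pointwise

variable {G : Type*} [Group G]

theorem card_le_of_comm [Finite G] {R T : Subgroup G} (b : G) (K : Subgroup G)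
    (h1 : ∀ r ∈ R, ⁅r, b⁆ ∈ K) (h2 : ∀ r ∈ R, r * b = b * r → r ∈ T) :
    Nat.card R ≤ Nat.card K * Nat.card T := by
  classical
  let f : R → K := fun r => ⟨⁅(r : G), b⁆, h1 r r.2⟩
  let rep : R → R := fun r => Function.invFun f (f r)
  have hrep : ∀ r, f (rep r) = f r := fun r => Function.invFun_eq ⟨r, rfl⟩
  have hT : ∀ r : R, ((rep r : G))⁻¹ * r ∈ T := by
    intro r
    refine h2 _ (mul_mem (inv_mem (rep r).2) r.2) ?_
    have h : ⁅((rep r : R) : G), b⁆ = ⁅(r : G), b⁆ := congrArg Subtype.val (hrep r)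
    rw [commutatorElement_def, commutatorElement_def] at h
    have h' : (rep r : G) * b * (rep r : G)⁻¹ = (r : G) * b * (r : G)⁻¹ := mul_right_cancel h
    calc (rep r : G)⁻¹ * r * b = (rep r : G)⁻¹ * ((r : G) * b * (r : G)⁻¹) * r := by group
      _ = (rep r : G)⁻¹ * ((rep r : G) * b * (rep r : G)⁻¹) * r := by rw [h']
      _ = b * ((rep r : G)⁻¹ * r) := by group
  rw [← Nat.card_prod]
  refine Nat.card_le_card_of_injective (fun r : R => (f r, (⟨_, hT r⟩ : T))) fun r s e => ?_
  simp only [Prod.mk.injEq, Subtype.mk.injEq] at e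
  have h3 : rep r = rep s := by simp only [rep, e.1]
  rw [h3] at e
  exact Subtype.ext (mul_left_cancel e.2)

theorem union_le {A X Y : Subgroup G} (h : ∀ a ∈ A, a ∈ X ∨ a ∈ Y) : A ≤ X ∨ A ≤ Y := by
  by_contra hc
  push Not at hc
  obtain ⟨a, haA, haX⟩ := SetLike.not_le_iff_exists.1 hc.1
  obtain ⟨b, hbA, hbY⟩ := SetLike.not_le_iff_exists.1 hc.2
  have haY := (h a haA).resolve_left haX
  have hbX := (h b hbA).resolve_right hbY
  rcases h _ (mul_mem haA hbA) with hab | hab
  · exact haX (by simpa using mul_mem hab (inv_mem hbX))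
  · exact hbY (by simpa using mul_mem (inv_mem haY) hab)

theorem commutator_ne_self [Finite G] {N H : Subgroup G} (hN : IsPGroup 2 N) (hHN : H ≤ N) (hH : H ≠ ⊥) :
    ⁅H, N⁆ ≠ H := by
  haveI : Fact (Nat.Prime 2) := ⟨Nat.prime_two⟩
  haveI := hN.isNilpotent
  intro he
  have he' : ⁅H.subgroupOf N, (⊤ : Subgroup N)⁆ = H.subgroupOf N := by
    apply Subgroup.map_injective N.subtype_injective
    rw [Subgroup.map_commutator, Subgroup.map_subgroupOf_eq_of_le hHN,
      ← MonoidHom.range_eq_map, Subgroup.range_subtype]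
    exact he
  have hle : ∀ n, H.subgroupOf N ≤ (⊤ : Subgroup N).lowerCentralSeries n := by
    intro n
    induction n with
    | zero => simp
    | succ n ih =>
      rw [← he', Subgroup.lowerCentralSeries_succ]
      exact Subgroup.commutator_mono ih le_rfl
  obtain ⟨n, hn⟩ := Subgroup.nilpotent_iff_lowerCentralSeries.1 (inferInstance : Group.IsNilpotent N)
  have := le_bot_iff.1 (hn ▸ hle n)
  rw [Subgroup.subgroupOf_eq_bot, disjoint_iff] at this
  exact hH (by rwa [inf_eq_left.2 hHN] at this)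

/-- The standing hypotheses. -/
structure FourData (P T B : Subgroup G) : Prop where
  two : IsPGroup 2 P
  leP : T ≤ P
  card : Nat.card T = 16
  sq : ∀ t ∈ T, t * t = 1
  leT : B ≤ T
  cardB : Nat.card B = 4
  cent : ∀ b ∈ B, b ≠ 1 → ∀ s ∈ P, s * b = b * s → s ∈ T

namespace FourData

variable [Finite G] {P T B : Subgroup G}

theorem comm (h : FourData P T B) {a b : G} (ha : a ∈ T) (hb : b ∈ T) : a * b = b * a :=
  calc a * b = (a * b)⁻¹ := eq_inv_of_mul_eq_one_left (h.sq _ (mul_mem ha hb))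
    _ = b⁻¹ * a⁻¹ := mul_inv_rev a b
    _ = b * a := by
      rw [inv_eq_of_mul_eq_one_right (h.sq a ha), inv_eq_of_mul_eq_one_right (h.sq b hb)]

theorem meets_B (h : FourData P T B) {K : Subgroup G} (hK : K ≤ T) (hc : 4 < Nat.card K) :
    ∃ b ∈ B, b ≠ 1 ∧ b ∈ K := by
  by_contra hno
  push Not at hno
  have hinj : Function.Injective (fun q : B × K => (⟨(q.1 : G) * q.2, mul_mem (h.leT q.1.2) (hK q.2.2)⟩ : T)) := by
    rintro ⟨b, k⟩ ⟨b', k'⟩ e
    simp only [Subtype.mk.injEq] at e
    have h1 : (b' : G)⁻¹ * b = (k' : G) * (k : G)⁻¹ := by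
      rw [eq_mul_inv_iff_mul_eq, mul_assoc, e]; group
    have hb : (b' : G)⁻¹ * b = 1 := by
      by_contra hne
      exact hno _ (mul_mem (inv_mem b'.2) b.2) hne (h1 ▸ mul_mem k'.2 (inv_mem k.2))
    have hk : (k' : G) * (k : G)⁻¹ = 1 := h1 ▸ hb
    exact Prod.ext (Subtype.ext (inv_mul_eq_one.1 hb).symm) (Subtype.ext (mul_inv_eq_one.1 hk).symm)
  have := Nat.card_le_card_of_injective _ hinj
  rw [Nat.card_prod, h.cardB, h.card] at this
  omega

/-- An element outside `T` centralizes at most four elements of `T`. -/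
theorem cent_le (h : FourData P T B) {w : G} (hw : w ∈ P) (hwT : w ∉ T) {K : Subgroup G} (hK : K ≤ T)
    (hc : ∀ k ∈ K, w * k = k * w) : Nat.card K ≤ 4 := by
  by_contra hlt
  obtain ⟨b, hbB, hb1, hbK⟩ := h.meets_B hK (by omega)
  exact hwT (h.cent b hbB hb1 w hw (hc b hbK))

theorem lt_card_eight (h : FourData P T B) {K : Subgroup G} (hK : K ≤ T) (hne : K ≠ T) : Nat.card K ≤ 8 := by
  have h1 : Nat.card K ∣ 16 := h.card ▸ Subgroup.card_dvd_of_le hK
  have h2 : Nat.card K ≠ 16 := fun e => hne (Subgroup.eq_of_le_of_card_ge hK (by rw [h.card, e]))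
  have h3 := Nat.le_of_dvd (by omega) h1
  revert h1 h2 h3
  generalize Nat.card K = k
  intro h1 h2 h3
  interval_cases k <;> omega

theorem four_of_lt_eight {K : Subgroup G} {n : ℕ} (hn : Nat.card K ∣ n) (h16 : n = 16)
    (hlt : Nat.card K < 8) : Nat.card K ≤ 4 := by
  subst h16
  revert hn hlt
  generalize Nat.card K = k
  intro hn hlt
  interval_cases k <;> omega

omit [Finite G] in
theorem mem_map_conj {g x : G} {K : Subgroup G} :
    x ∈ K.map (MulAut.conj g).toMonoidHom ↔ g⁻¹ * x * g ∈ K := by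
  rw [Subgroup.mem_map]
  constructor
  · rintro ⟨k, hk, rfl⟩; simpa [mul_assoc] using hk
  · intro hx; exact ⟨_, hx, by simp [mul_assoc]⟩

omit [Finite G] in
theorem card_map_conj (g : G) (K : Subgroup G) :
    Nat.card ↥(K.map (MulAut.conj g).toMonoidHom) = Nat.card K :=
  Subgroup.card_map_of_injective (MulAut.conj g).injective

omit [Finite G] in
theorem map_conj_le_of_mem {g : G} {K : Subgroup G} (hg : g ∈ Subgroup.normalizer (K : Set G)) {L : Subgroup G}
    (hL : L ≤ K) : L.map (MulAut.conj g).toMonoidHom ≤ K := by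
  rintro _ ⟨t, ht, rfl⟩
  exact (Subgroup.mem_normalizer_iff.1 hg t).1 (hL ht)

theorem mem_normalizer_of_map_le {g : G} {K : Subgroup G} (h : K.map (MulAut.conj g).toMonoidHom ≤ K) :
    g ∈ Subgroup.normalizer (K : Set G) := by
  have he : K.map (MulAut.conj g).toMonoidHom = K :=
    Subgroup.eq_of_le_of_card_ge h (card_map_conj g K).ge
  rw [Subgroup.mem_normalizer_iff]
  intro t
  constructor
  · intro ht; exact h ⟨t, ht, rfl⟩
  · intro ht
    rw [← he, mem_map_conj] at ht
    simpa [mul_assoc] using ht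

theorem norm_card (h : FourData P T B) :
    Nat.card ↥(P ⊓ Subgroup.normalizer (T : Set G)) ≤ 64 := by
  classical
  let N := P ⊓ Subgroup.normalizer (T : Set G)
  have hTN : T ≤ N := le_inf h.leP Subgroup.le_normalizer
  have hN2 : IsPGroup 2 N := h.two.to_le inf_le_left
  have hT1 : T ≠ ⊥ := fun e => by have := h.card; rw [e, Subgroup.card_bot] at this; omega
  have hH0 : ⁅T, N⁆ ≤ T := by
    rw [Subgroup.commutator_le]
    intro t ht w hw
    rw [commutatorElement_def, mul_assoc, mul_assoc, ← mul_assoc w]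
    exact mul_mem ht ((Subgroup.mem_normalizer_iff.1 hw.2 t⁻¹).1 (inv_mem ht))
  have hne0 : ⁅T, N⁆ ≠ T := commutator_ne_self hN2 hTN hT1
  have hc0 := h.lt_card_eight hH0 hne0
  suffices hK : ∃ b ∈ B, b ≠ 1 ∧ ∃ K : Subgroup G, Nat.card K ≤ 4 ∧ ∀ w ∈ N, ⁅w, b⁆ ∈ K by
    obtain ⟨b, hb, hb1, K, hK4, hK⟩ := hK
    have := card_le_of_comm b K hK fun w hw e => h.cent b hb hb1 w hw.1 e
    rw [h.card] at this
    show Nat.card N ≤ 64
    exact this.trans (by omega)
  by_cases hmeet : ∃ b ∈ B, b ≠ 1 ∧ b ∈ ⁅T, N⁆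
  · obtain ⟨b, hb, hb1, hbH⟩ := hmeet
    have hne : ⁅T, N⁆ ≠ ⊥ := fun e => hb1 (by simpa [e] using hbH)
    refine ⟨b, hb, hb1, ⁅⁅T, N⁆, N⁆, ?_, ?_⟩
    · have hnorm : N ≤ Subgroup.normalizer ((⁅T, N⁆ : Subgroup G) : Set G) := by
        refine fun w hw => mem_normalizer_of_map_le ?_
        rw [Subgroup.map_commutator]
        refine Subgroup.commutator_mono ?_ ?_
        · rintro _ ⟨t, ht, rfl⟩
          exact (Subgroup.mem_normalizer_iff.1 hw.2 t).1 ht
        · rintro _ ⟨t, ht, rfl⟩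
          exact mul_mem (mul_mem hw ht) (inv_mem hw)
      have hle : ⁅⁅T, N⁆, N⁆ ≤ ⁅T, N⁆ := by
        rw [Subgroup.commutator_le]
        intro t ht w hw
        rw [commutatorElement_def, mul_assoc, mul_assoc, ← mul_assoc w]
        exact mul_mem ht ((Subgroup.mem_normalizer_iff.1 (hnorm hw) t⁻¹).1 (inv_mem ht))
      have hne2 := commutator_ne_self hN2 (hH0.trans hTN) hne
      have hlt : Nat.card ↥⁅⁅T, N⁆, N⁆ < 8 := by
        rcases lt_or_eq_of_le hc0 with hlt | heq
        · exact (Subgroup.card_le_of_le hle).trans_lt hlt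
        · refine lt_of_le_of_ne (heq ▸ Subgroup.card_le_of_le hle) fun e => hne2 ?_
          exact Subgroup.eq_of_le_of_card_ge hle (by rw [heq, e])
      exact four_of_lt_eight (Subgroup.card_dvd_of_le (hle.trans hH0)) h.card hlt
    · intro w hw
      rw [← commutatorElement_inv]
      exact inv_mem (Subgroup.commutator_mem_commutator hbH hw)
  · obtain ⟨b, hb, hb1⟩ := B.bot_or_exists_ne_one.resolve_left
      (fun e => by have := h.cardB; rw [e, Subgroup.card_bot] at this; omega)
    refine ⟨b, hb, hb1, ⁅T, N⁆, ?_, ?_⟩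
    · by_contra hlt
      obtain ⟨c, hc, hc1, hcK⟩ := h.meets_B hH0 (by omega)
      exact hmeet ⟨c, hc, hc1, hcK⟩
    · intro w hw
      rw [← commutatorElement_inv]
      exact inv_mem (Subgroup.commutator_mem_commutator (h.leT hb) hw)

/-- No elementary section of order 32 once some element of `B` is inside. -/
theorem bound_of_eight (h : FourData P T B) {R V : Subgroup G} (hR : R ≤ P) (he : ElemOver R V)
    (h8 : 4 < Nat.card ↥(R ⊓ T)) : Nat.card R ≤ 16 * Nat.card V := by
  obtain ⟨b, hb, hb1, hbR⟩ := h.meets_B inf_le_right h8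
  have := card_le_of_comm b V (fun r hr => he.2.1 r hr b hbR.1)
    fun r hr e => h.cent b hb hb1 r (hR hr) e
  rw [h.card] at this
  linarith

theorem exists_normalizing (h : FourData P T B) {K : Subgroup G} (hK : K < P) :
    ∃ g ∈ P, g ∉ K ∧ g ∈ Subgroup.normalizer (K : Set G) := by
  haveI : Fact (Nat.Prime 2) := ⟨Nat.prime_two⟩
  haveI := h.two.isNilpotent
  have hlt : K.subgroupOf P < ⊤ := lt_top_iff_ne_top.2 fun e => by
    rw [Subgroup.subgroupOf_eq_top] at e
    exact hK.not_ge e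
  obtain ⟨g, hg, hgK⟩ := SetLike.exists_of_lt (Group.normalizerCondition_of_isNilpotent _ hlt)
  refine ⟨g, g.2, fun hh => hgK hh, mem_normalizer_of_map_le ?_⟩
  rintro _ ⟨t, ht, rfl⟩
  have := (Subgroup.mem_normalizer_iff.1 hg ⟨t, hK.le ht⟩).1 ht
  simpa [Subgroup.mem_subgroupOf] using this

theorem main (h : FourData P T B) (R V : Subgroup G) (hR : R ≤ P) (he : ElemOver R V) :
    Nat.card R ≤ 16 * Nat.card V := by
  classical
  by_cases h8 : 4 < Nat.card ↥(R ⊓ T)
  · exact h.bound_of_eight hR he h8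
  by_contra hbad
  have hV : 0 < Nat.card V := Nat.card_pos
  let N := P ⊓ Subgroup.normalizer (T : Set G)
  have hTN : T ≤ N := le_inf h.leP Subgroup.le_normalizer
  have hN : Nat.card N ≤ 64 := h.norm_card
  have hsplit : ∀ K : Subgroup G, Nat.card K = Nat.card ↥(T ⊓ K) * T.relIndex K := fun K => by
    have e := Subgroup.relIndex_mul_relIndex ⊥ (T ⊓ K) K bot_le inf_le_right
    rw [Subgroup.relIndex_bot_left, Subgroup.relIndex_bot_left, Subgroup.inf_relIndex_right] at e
    exact e.symm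
  have hmono : ∀ {K L : Subgroup G}, K ≤ L → T.relIndex K ≤ T.relIndex L := fun {K L} hKL =>
    Subgroup.relIndex_le_of_le_right hKL Subgroup.index_ne_zero_of_finite
  have hTT : T ⊓ N = T := inf_eq_left.2 hTN
  have hNi : T.relIndex N ≤ 4 := by
    have := hsplit N
    rw [hTT, h.card] at this
    omega
  have hRT : Nat.card ↥(T ⊓ R) ≤ 4 := by rw [inf_comm]; omega
  -- the case `P = N`
  by_cases hPN : P ≤ N
  · have h1 := hsplit R
    have h2 : T.relIndex R ≤ 4 := (hmono (hR.trans hPN)).trans hNi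
    have h3 := Nat.mul_le_mul hRT h2
    omega
  obtain ⟨g, hgP, hgN, hgn⟩ := h.exists_normalizing (K := N)
    (lt_of_le_of_ne inf_le_left fun e => hPN e.ge)
  let T' := T.map (MulAut.conj g).toMonoidHom
  have hT'N : T' ≤ N := map_conj_le_of_mem hgn hTN
  have hT'c : Nat.card T' = 16 := (card_map_conj g T).trans h.card
  have hT'ne : T' ≠ T := fun e => hgN ⟨hgP, mem_normalizer_of_map_le e.le⟩
  have hT'a : ∀ a ∈ T', ∀ b ∈ T', a * b = b * a := by
    rintro _ ⟨a, ha, rfl⟩ _ ⟨b, hb, rfl⟩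
    rw [← map_mul, ← map_mul, h.comm ha hb]
  have hNT' : N ≤ Subgroup.normalizer (T' : Set G) := by
    intro w hw
    refine mem_normalizer_of_map_le ?_
    rintro _ ⟨_, ⟨t, ht, rfl⟩, rfl⟩
    have hw' : g⁻¹ * w * g ∈ N := by
      have := (Subgroup.mem_normalizer_iff.1 (inv_mem hgn) w).1 hw
      simpa using this
    refine ⟨_, (Subgroup.mem_normalizer_iff.1 hw'.2 t).1 ht, ?_⟩
    simp only [MulEquiv.coe_toMonoidHom, MulAut.conj_apply]
    group
  obtain ⟨w₀, hw₀, hw₀T⟩ := SetLike.not_le_iff_exists.1 fun hle : T' ≤ T =>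
    hT'ne (Subgroup.eq_of_le_of_card_ge hle (by rw [hT'c, h.card]))
  have hI4 : Nat.card ↥(T ⊓ T') ≤ 4 :=
    h.cent_le (hT'N hw₀).1 hw₀T inf_le_left fun k hk => hT'a _ hw₀ _ hk.2
  have hr4 : T.relIndex T' = 4 ∧ Nat.card ↥(T ⊓ T') = 4 := by
    have h1 := hsplit T'
    have h2 : T.relIndex T' ≤ 4 := (hmono hT'N).trans hNi
    rw [hT'c] at h1
    exact ⟨by nlinarith, by nlinarith⟩
  have hsupN : T ⊔ T' = N := by
    refine Subgroup.eq_of_le_of_card_ge (sup_le hTN hT'N) ?_
    have h1 := hsplit (T ⊔ T')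
    have h2 : T.relIndex T' ≤ T.relIndex (T ⊔ T') := hmono le_sup_right
    rw [inf_eq_left.2 le_sup_left, h.card] at h1
    omega
  have hinvol : ∀ x ∈ N, x * x = 1 → x ∈ T ∨ x ∈ T' := by
    intro x hx hx2
    rw [← hsupN, ← SetLike.mem_coe,
      Subgroup.coe_mul_of_left_le_normalizer_right T T' (hTN.trans hNT')] at hx
    obtain ⟨t, ht, u, hu, rfl⟩ := Set.mem_mul.1 hx
    by_cases huT : u ∈ T
    · exact Or.inl (mul_mem ht huT)
    refine Or.inr (mul_mem ?_ hu)
    have hu2 : u * u = 1 := by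
      obtain ⟨a, ha, rfl⟩ := hu
      rw [← map_mul, h.sq a ha, map_one]
    have htu : u * t = t * u := by
      calc u * t = (t * t) * (u * t) * (u * u) := by rw [hu2, h.sq t ht]; group
        _ = t * ((t * u) * (t * u)) * u := by group
        _ = t * u := by rw [hx2]; group
    -- the centralizer of `u` in `T` is the intersection with `T'`
    let C := T ⊓ Subgroup.centralizer {u}
    have hC : Nat.card C ≤ 4 := h.cent_le (hT'N hu).1 huT inf_le_left
      fun k hk => Subgroup.mem_centralizer_singleton_iff.1 hk.2 |>.symm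
    have hle : T ⊓ T' ≤ C := fun k hk =>
      ⟨hk.1, Subgroup.mem_centralizer_singleton_iff.2 (hT'a _ hk.2 _ hu)⟩
    have heq : T ⊓ T' = C := Subgroup.eq_of_le_of_card_ge hle (by rw [hr4.2]; exact hC)
    exact (heq.ge ⟨ht, Subgroup.mem_centralizer_singleton_iff.2 htu.symm⟩).2
  have helem : ∀ A : Subgroup G, A ≤ N → (∀ a ∈ A, a * a = 1) → A ≤ T ∨ A ≤ T' := fun A hA hA2 =>
    union_le fun a ha => hinvol a (hA ha) (hA2 a ha)
  -- the normalizer of `N`
  let M := P ⊓ Subgroup.normalizer (N : Set G)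
  have hNM : N ≤ M := le_inf inf_le_left Subgroup.le_normalizer
  have hgM : g ∈ M := ⟨hgP, hgn⟩
  have himg : ∀ y ∈ M, T.map (MulAut.conj y).toMonoidHom = T ∨ T.map (MulAut.conj y).toMonoidHom = T' := by
    intro y hy
    have hc := (card_map_conj y T).trans h.card
    refine (helem _ (map_conj_le_of_mem hy.2 hTN) ?_).imp ?_ ?_
    · rintro _ ⟨a, ha, rfl⟩
      rw [← map_mul, h.sq a ha, map_one]
    · exact fun hle => Subgroup.eq_of_le_of_card_ge hle (by rw [hc, h.card])
    · exact fun hle => Subgroup.eq_of_le_of_card_ge hle (by rw [hc, hT'c])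
  have hfixN : ∀ y ∈ M, T.map (MulAut.conj y).toMonoidHom = T → y ∈ N := fun y hy e =>
    ⟨hy.1, mem_normalizer_of_map_le e.le⟩
  have hswap : ∀ y ∈ M, y ∉ N → ∀ t ∈ T, y * t * y⁻¹ ∈ T' := fun y hy hyN t ht =>
    ((himg y hy).resolve_left fun e => hyN (hfixN y hy e)) ▸ Subgroup.mem_map_of_mem _ ht
  have hidx : N.relIndex M ≤ 2 := by
    have hinj : Function.Injective (fun q : M ⧸ N.subgroupOf M =>
        decide (T.map (MulAut.conj ((Quotient.out q : M) : G)).toMonoidHom = T)) := by
      intro q₁ q₂ e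
      simp only [decide_eq_decide] at e
      let a : M := Quotient.out q₁
      let c : M := Quotient.out q₂
      have hsame : T.map (MulAut.conj (a : G)).toMonoidHom = T.map (MulAut.conj (c : G)).toMonoidHom := by
        rcases himg a a.2 with h1 | h1 <;> rcases himg c c.2 with h2 | h2
        · rw [h1, h2]
        · exact absurd (h2.symm.trans (e.1 h1)) hT'ne
        · exact absurd (h1.symm.trans (e.2 h2)) hT'ne
        · rw [h1, h2]
      have hmem : (a : G)⁻¹ * c ∈ N := by
        refine ⟨P.mul_mem (P.inv_mem a.2.1) c.2.1, mem_normalizer_of_map_le ?_⟩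
        rintro _ ⟨t, ht, rfl⟩
        have h1 : (c : G) * t * (c : G)⁻¹ ∈ T.map (MulAut.conj (a : G)).toMonoidHom :=
          hsame.ge (Subgroup.mem_map_of_mem _ ht)
        rw [mem_map_conj] at h1
        simpa [mul_assoc] using h1
      rw [← Quotient.out_eq q₁, ← Quotient.out_eq q₂]
      exact QuotientGroup.eq.2 hmem
    have := Nat.card_le_card_of_injective _ hinj
    rw [Subgroup.relIndex, Subgroup.index_eq_card]
    simpa using this
  have hhalf : ∀ K : Subgroup G, K ≤ M → Nat.card K ≤ 2 * Nat.card ↥(N ⊓ K) := by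
    intro K hK
    have h1 := Subgroup.relIndex_mul_relIndex ⊥ (N ⊓ K) K bot_le inf_le_right
    rw [Subgroup.relIndex_bot_left, Subgroup.relIndex_bot_left, Subgroup.inf_relIndex_right] at h1
    have h2 : N.relIndex K ≤ 2 := (Subgroup.relIndex_le_of_le_right hK Subgroup.index_ne_zero_of_finite).trans hidx
    nlinarith
  have hMP : M = P := by
    by_contra hne
    obtain ⟨k, hkP, hkM, hkn⟩ := h.exists_normalizing (K := M) (lt_of_le_of_ne inf_le_left hne)
    have hclaim : ∀ y, y ∈ Subgroup.normalizer (M : Set G) → T.map (MulAut.conj y).toMonoidHom ≤ N := by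
      intro y hyn
      let X := T.map (MulAut.conj y).toMonoidHom
      by_contra hX
      obtain ⟨a, haX, haN⟩ := SetLike.not_le_iff_exists.1 hX
      have hXM : X ≤ M := map_conj_le_of_mem hyn (hTN.trans hNM)
      have hX2 : ∀ a ∈ X, a * a = 1 := by
        rintro _ ⟨t, ht, rfl⟩
        rw [← map_mul, h.sq t ht, map_one]
      have hXa : ∀ a ∈ X, ∀ b ∈ X, a * b = b * a := by
        rintro _ ⟨t, ht, rfl⟩ _ ⟨s, hs, rfl⟩
        rw [← map_mul, ← map_mul, h.comm ht hs]
      have hJ := hhalf X hXM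
      rw [(card_map_conj y T).trans h.card] at hJ
      have hfix : ∀ j ∈ N ⊓ X, j ∈ T ↔ j ∈ T' := by
        intro j hj
        have hcj : a * j * a⁻¹ = j := by rw [hXa a haX j hj.2, mul_inv_cancel_right]
        constructor
        · intro hjT; exact hcj ▸ hswap a (hXM haX) haN j hjT
        · intro hjT'
          have h1 : T.map (MulAut.conj a).toMonoidHom = T' :=
            (himg a (hXM haX)).resolve_left fun e => haN (hfixN a (hXM haX) e)
          rw [← h1, mem_map_conj] at hjT'
          rwa [show a⁻¹ * j * a = j by rw [mul_assoc, hXa j hj.2 a haX, inv_mul_cancel_left]] at hjT'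
      have hle : N ⊓ X ≤ T ⊓ T' := fun j hj => by
        rcases hinvol j hj.1 (hX2 j hj.2) with hjT | hjT
        · exact ⟨hjT, (hfix j hj).1 hjT⟩
        · exact ⟨(hfix j hj).2 hjT, hjT⟩
      have := Subgroup.card_le_of_le hle
      omega
    refine hkM ⟨hkP, mem_normalizer_of_map_le ?_⟩
    rw [← hsupN, Subgroup.map_sup]
    refine hsupN ▸ sup_le (hclaim k hkn) ?_
    rw [Subgroup.map_map]
    have hgn' : g ∈ Subgroup.normalizer (M : Set G) := Subgroup.le_normalizer hgM
    convert hclaim (k * g) (mul_mem hkn hgn') using 2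
    ext t; simp [mul_assoc]
  have hRM : R ≤ M := hR.trans hMP.ge
  have hTR8 : T.relIndex R ≤ 8 := by
    have h1 := hhalf M le_rfl
    rw [inf_eq_left.2 hNM] at h1
    have h2 := hsplit M
    rw [inf_eq_left.2 (hTN.trans hNM), h.card] at h2
    have := hmono hRM
    omega
  have hR32 : Nat.card R ≤ 32 := by
    have := hsplit R
    have := Nat.mul_le_mul hRT hTR8
    omega
  have hV1 : Nat.card V = 1 := by omega
  have hVbot : V = ⊥ := Subgroup.eq_bot_of_card_eq _ hV1
  have hR2 : ∀ a ∈ R, a * a = 1 := fun a ha => by simpa [hVbot] using he.2.2 a ha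
  have hRa : ∀ a ∈ R, ∀ b ∈ R, a * b = b * a := fun a ha b hb =>
    commutatorElement_eq_one_iff_mul_comm.1 (by simpa [hVbot] using he.2.1 a ha b hb)
  have hM := hhalf R hRM
  rcases helem (N ⊓ R) inf_le_left (fun a ha => hR2 a ha.2) with hle | hle
  · have := Subgroup.card_le_of_le (le_inf hle inf_le_right : N ⊓ R ≤ T ⊓ R)
    omega
  · have hd : Nat.card ↥(N ⊓ R) ∣ 16 := hT'c ▸ Subgroup.card_dvd_of_le hle
    have heq : N ⊓ R = T' := by
      refine Subgroup.eq_of_le_of_card_ge hle ?_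
      rw [hT'c]
      have := Nat.le_of_dvd (by omega) hd
      by_contra hlt
      revert hd hlt this hM
      generalize Nat.card ↥(N ⊓ R) = m
      intro hM hd this hlt
      interval_cases m <;> omega
    obtain ⟨b, hb, hb1⟩ := B.bot_or_exists_ne_one.resolve_left
      (fun e => by have := h.cardB; rw [e, Subgroup.card_bot] at this; omega)
    have hsub : R ≤ T' := by
      intro r hr
      rw [mem_map_conj]
      refine h.cent b hb hb1 _ (mul_mem (mul_mem (inv_mem hgP) (hR hr)) hgP) ?_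
      have h1 := hRa r hr _ (heq.ge (Subgroup.mem_map_of_mem (MulAut.conj g).toMonoidHom (h.leT hb))).2
      simp only [MulEquiv.coe_toMonoidHom, MulAut.conj_apply] at h1
      calc g⁻¹ * r * g * b = g⁻¹ * (r * (g * b * g⁻¹)) * g := by group
        _ = g⁻¹ * ((g * b * g⁻¹) * r) * g := by rw [h1]
        _ = b * (g⁻¹ * r * g) := by group
    have := Subgroup.card_le_of_le hsub
    omega

end FourData

end Cfsg.Agent.Fusion.HaradaDV
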