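import Mathlib
import Cfsg.Prelude.Def_CaseTheorems

/-!
Sectional 2-rank at most four from a bound on the elementary quotients of the subgroups of one
Sylow 2-subgroup.
-/

set_option autoImplicit false

namespace Cfsg.Agent.Fusion.HaradaDV

open scoped Pointwise commutatorElement

variable {G : Type*} [Group G]

/-- `V ≤ R` and `R/V` is elementary abelian of exponent 2 (without asking for normality). -/
def ElemOver (R V : Subgroup G) : Prop :=
  V ≤ R ∧ (∀ a ∈ R, ∀ b ∈ R, ⁅a, b⁆ ∈ V) ∧ ∀ a ∈ R, a * a ∈ V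

/-- A bound on the elementary quotients of subgroups of a Sylow 2-subgroup bounds the sectional 2-rank. -/
theorem sectional_of_sylow [Finite G] (P : Sylow 2 G)
    (h : ∀ R V : Subgroup G, R ≤ (P : Subgroup G) → ElemOver R V → Nat.card R ≤ 16 * Nat.card V) :
    Cfsg.SectionalPRankLE 2 4 G := by
  classical
  have : Fact (Nat.Prime 2) := ⟨Nat.prime_two⟩
  intro H N hN A hAc hA2
  let U : Subgroup H := A.comap (QuotientGroup.mk' N)
  let f : U →* A := ((QuotientGroup.mk' N).comp U.subtype).codRestrict A fun u => u.2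
  have hf : Function.Surjective f := by
    rintro ⟨a, ha⟩
    obtain ⟨u, hu⟩ := QuotientGroup.mk'_surjective N a
    exact ⟨⟨u, by simpa [U] using (hu ▸ ha : QuotientGroup.mk' N u ∈ A)⟩, Subtype.ext hu⟩
  have hAp : IsPGroup 2 A := fun a => ⟨1, Subtype.ext (by simpa using hA2 a.1 a.2)⟩
  let R0 : Sylow 2 U := default
  have htop : ((R0.mapSurjective hf : Sylow 2 A) : Subgroup A) = ⊤ := by
    refine ((R0.mapSurjective hf).is_maximal' ?_ le_top).symm
    intro a
    obtain ⟨k, hk⟩ := hAp a.1
    exact ⟨k, Subtype.ext hk⟩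
  rw [Sylow.coe_mapSurjective] at htop
  let ι : U →* G := H.subtype.comp U.subtype
  have hι : Function.Injective ι := fun a b e => Subtype.ext (Subtype.ext e)
  obtain ⟨Q, hQ⟩ := (R0.isPGroup'.map ι).exists_le_sylow
  obtain ⟨g, hg⟩ := MulAction.exists_smul_eq G Q P
  let κ : (R0 : Subgroup U) →* G :=
    ((MulAut.conj g).toMonoidHom.comp ι).comp (R0 : Subgroup U).subtype
  have hκ : Function.Injective κ := fun a b e =>
    Subtype.ext (hι ((MulAut.conj g).injective e))
  let f' : (R0 : Subgroup U) →* A := f.comp (R0 : Subgroup U).subtype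
  have hf' : Function.Surjective f' := by
    intro a
    obtain ⟨r, hr, hra⟩ := htop.ge (Subgroup.mem_top a)
    exact ⟨⟨r, hr⟩, hra⟩
  have hle : κ.range ≤ (P : Subgroup G) := by
    rintro _ ⟨r, rfl⟩
    rw [← hg, Sylow.coe_subgroup_smul]
    refine Subgroup.mem_map_of_mem _ (hQ (Subgroup.mem_map_of_mem ι r.2))
  have he : ElemOver κ.range (f'.ker.map κ) := by
    refine ⟨Subgroup.map_le_range κ _, ?_, ?_⟩
    · rintro _ ⟨a, rfl⟩ _ ⟨b, rfl⟩
      refine ⟨⁅a, b⁆, ?_, map_commutatorElement κ a b⟩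
      rw [SetLike.mem_coe, MonoidHom.mem_ker, map_commutatorElement,
        commutatorElement_eq_one_iff_mul_comm]
      exact hAc.is_comm.comm _ _
    · rintro _ ⟨a, rfl⟩
      refine ⟨a * a, ?_, map_mul κ a a⟩
      rw [SetLike.mem_coe, MonoidHom.mem_ker, map_mul]
      exact Subtype.ext (by simpa [pow_two] using hA2 (f' a).1 (f' a).2)
  have hb := h _ _ hle he
  rw [Subgroup.card_map_of_injective hκ,
    Nat.card_congr (MonoidHom.ofInjective hκ).symm.toEquiv] at hb
  have hq := Subgroup.card_eq_card_quotient_mul_card_subgroup f'.ker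
  rw [Nat.card_congr (QuotientGroup.quotientKerEquivOfSurjective f' hf').toEquiv] at hq
  rw [hq] at hb
  exact Nat.le_of_mul_le_mul_right hb Nat.card_pos

end Cfsg.Agent.Fusion.HaradaDV
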